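import Groth.Agent.Etdl.H292.FinPow
import Mathlib.RingTheory.Ideal.KrullsHeightTheorem
import Mathlib.RingTheory.KrullDimension.NonZeroDivisors

/-!
# A complete local ring is finite over a power series ring, with prescribed first variable

`exists_finite_of_ringKrullDim_le` (`S3736`-P14): `R` a complete Noetherian local `k`-algebra with residue
field `k`, `dim R ≤ e`, `f ∈ 𝔪` a nonzerodivisor. Then for some `j + 1 ≤ e` there is a finite map
`k[[x_0, …, x_j]] → R` of `k`-algebras with `x_0 ↦ f`.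
-/

set_option autoImplicit false

universe u

namespace Groth.Agent.Etdl.H520.SopFin

open IsLocalRing

/-- a system of parameters modulo `f` -/
theorem exists_sop (R : Type u) [CommRing R] [IsLocalRing R] [IsNoetherianRing R]
    (e : ℕ) (he : ringKrullDim R ≤ e) (f : R) (hf : f ∈ nonZeroDivisors R) (hfm : f ∈ maximalIdeal R) :
    ∃ (j : ℕ) (_ : j + 1 ≤ e) (y : Fin j → R), (∀ i, y i ∈ maximalIdeal R) ∧
      maximalIdeal R ≤ (Ideal.span (Set.insert f (Set.range y))).radical := by
  classical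
  have hne : Ideal.span {f} ≠ ⊤ := fun h =>
    (maximalIdeal.isMaximal R).ne_top (top_le_iff.1 (h ▸ (Ideal.span_singleton_le_iff_mem _).2 hfm))
  have : Nontrivial (R ⧸ Ideal.span {f}) := Ideal.Quotient.nontrivial_iff.2 hne
  have : IsLocalRing (R ⧸ Ideal.span {f}) :=
    IsLocalRing.of_surjective' (Ideal.Quotient.mk (Ideal.span {f})) Ideal.Quotient.mk_surjective
  have h1 := ringKrullDim_quotient_succ_le_of_nonZeroDivisor hf
  obtain ⟨s, hs1, hs2⟩ := (maximalIdeal (R ⧸ Ideal.span {f})).exists_finset_card_eq_height_of_isNoetherianRing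
  have hdim : ((s.card : ℕ∞) : WithBot ℕ∞) = ringKrullDim (R ⧸ Ideal.span {f}) := by
    rw [hs2, IsLocalRing.maximalIdeal_height_eq_ringKrullDim]
  have hj : s.card + 1 ≤ e := by
    rw [← hdim] at h1
    have h2 := h1.trans he
    exact_mod_cast h2
  let y' : Fin s.card → R ⧸ Ideal.span {f} := fun i => (s.equivFin.symm i).1
  choose y hy using fun i => Ideal.Quotient.mk_surjective (y' i)
  have hy' : Set.range y' = (s : Set _) := by
    ext x
    constructor
    · rintro ⟨i, rfl⟩; exact (s.equivFin.symm i).2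
    · intro hx; exact ⟨s.equivFin ⟨x, hx⟩, by simp [y']⟩
  have hmk : (maximalIdeal (R ⧸ Ideal.span {f})).comap (Ideal.Quotient.mk (Ideal.span {f})) =
      maximalIdeal R := by
    refine (IsLocalRing.eq_maximalIdeal ?_)
    exact Ideal.comap_isMaximal_of_surjective _ Ideal.Quotient.mk_surjective
  refine ⟨s.card, hj, y, fun i => ?_, ?_⟩
  · rw [← hmk, Ideal.mem_comap, hy]
    exact hs1.1.2 (Ideal.subset_span (s.equivFin.symm i).2)
  · have hr : maximalIdeal (R ⧸ Ideal.span {f}) ≤ (Ideal.span (s : Set _)).radical := by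
      rw [Ideal.radical_eq_sInf]
      refine le_sInf fun J hJ => ?_
      obtain ⟨hJ1, hJ2⟩ := hJ
      exact hs1.2 ⟨hJ2, hJ1⟩ (IsLocalRing.le_maximalIdeal hJ2.ne_top)
    intro x hx
    have hx' : Ideal.Quotient.mk (Ideal.span {f}) x ∈ maximalIdeal (R ⧸ Ideal.span {f}) := by
      rw [← hmk] at hx
      exact hx
    obtain ⟨n, hn⟩ := hr hx'
    refine ⟨n, ?_⟩
    rw [← map_pow, ← hy'] at hn
    have hspan : Ideal.span (Set.range y') =
        (Ideal.span (Set.range y)).map (Ideal.Quotient.mk (Ideal.span {f})) := by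
      rw [Ideal.map_span]
      congr 1
      ext z
      constructor
      · rintro ⟨i, rfl⟩; exact ⟨y i, ⟨i, rfl⟩, hy i⟩
      · rintro ⟨_, ⟨i, rfl⟩, rfl⟩; exact ⟨i, (hy i).symm⟩
    rw [hspan, ← Ideal.mem_comap, Ideal.comap_map_of_surjective' _ Ideal.Quotient.mk_surjective,
      Ideal.mk_ker] at hn
    have hle : Ideal.span (Set.range y) ⊔ Ideal.span {f} ≤
        Ideal.span (Set.insert f (Set.range y)) :=
      sup_le (Ideal.span_mono (Set.subset_insert _ _))
        ((Ideal.span_singleton_le_iff_mem _).2 (Ideal.subset_span (Set.mem_insert _ _)))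
    exact hle hn

theorem exists_finite_of_ringKrullDim_le (k : Type u) [Field k] (R : Type u) [CommRing R] [IsLocalRing R]
    [IsNoetherianRing R] [IsAdicComplete (maximalIdeal R) R] [Algebra k R]
    (hres : Function.Surjective (algebraMap k (ResidueField R)))
    (e : ℕ) (he : ringKrullDim R ≤ e) (f : R) (hf : f ∈ nonZeroDivisors R) (hfm : f ∈ maximalIdeal R) :
    ∃ (j : ℕ) (_ : j + 1 ≤ e) (φ : MvPowerSeries (Fin (j + 1)) k →ₐ[k] R),
      φ.toRingHom.Finite ∧ φ (MvPowerSeries.X 0) = f := by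
  obtain ⟨j, hj, y, hy, hr⟩ := exists_sop R e he f hf hfm
  obtain ⟨φ, hφ, hφX⟩ := Groth.Agent.Etdl.H292.FinPow.exists_finite_powerSeries k R hres (j + 1)
    (Fin.cons f y) (Fin.cases hfm hy) (by rw [Fin.range_cons]; exact hr)
  exact ⟨j, hj, φ, hφ, hφX 0⟩

end Groth.Agent.Etdl.H520.SopFin
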